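import Cfsg.Agent.H907.Odm.Core
import Cfsg.Agent.H453.OddM.RealOrth
import Cfsg.Agent.H884.ElT

/-!
# TEAM ODDM: `PΩ^+_{2m}(q)`, `q` odd (helper990)

* `not_cov_plus_even` : `m` even: a subgroup fixing a nonsingular line is not `Cov`
* `realP_char_oplus` : `m ≥ 3`: some element of order `p` is real
-/

set_option autoImplicit false
set_option linter.unusedSectionVars false

namespace Cfsg.Agent.H990.Odm

open Cfsg Cfsg.Geo Matrix Cfsg.Agent.H453.OddM Cfsg.Agent.H884.El
open Cfsg.Agent.ClassicalGeometry.Reflection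
open Cfsg.Agent.H907.Odm (mkIso mkIso_mulVec)

section Gen

variable {F : Type*} [Field F] {m : ℕ}

theorem iso_ext {ι : Type} [Fintype ι] [DecidableEq ι] {Q : (ι → F) → F} {a b : isometryGroup F Q}
    (h : ∀ v, ((a : Matrix.GeneralLinearGroup ι F) : Matrix ι ι F) *ᵥ v =
      ((b : Matrix.GeneralLinearGroup ι F) : Matrix ι ι F) *ᵥ v) : a = b := by
  apply Subtype.ext
  apply Units.ext
  apply Matrix.ext_of_mulVec_single
  intro i
  exact h _

theorem coe_mv {ι : Type} [Fintype ι] [DecidableEq ι] {Q : (ι → F) → F} (g h : Omega F Q) (x : ι → F) :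
    ((g * h : Omega F Q) : isometryGroup F Q).1.1 *ᵥ x =
      (g : isometryGroup F Q).1.1 *ᵥ ((h : isometryGroup F Q).1.1 *ᵥ x) := coe_mul_mulVec _ _ _ _

theorem qp_apply (v : Fin m ⊕ Fin m → F) : quadFormPlus m F v = ∑ i, v (.inl i) * v (.inr i) := rfl

/-- monomial isometries -/
def genL (σ : Equiv.Perm (Fin m)) (a : Fin m → F) (ha : ∀ i, a i * a i = 1) :
    (Fin m ⊕ Fin m → F) ≃ₗ[F] (Fin m ⊕ Fin m → F) where
  toFun v := Sum.elim (fun i => a i * v (.inl (σ i))) (fun i => a i * v (.inr (σ i)))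
  invFun v := Sum.elim (fun i => a (σ.symm i) * v (.inl (σ.symm i))) (fun i => a (σ.symm i) * v (.inr (σ.symm i)))
  map_add' v w := by
    funext i
    rcases i with i | i <;> simp [mul_add]
  map_smul' c v := by
    funext i
    rcases i with i | i <;> simp <;> ring
  left_inv v := by
    funext i
    rcases i with i | i <;> simp [← mul_assoc, ha]
  right_inv v := by
    funext i
    rcases i with i | i <;> simp [← mul_assoc, ha]

theorem genL_q (σ : Equiv.Perm (Fin m)) (a : Fin m → F) (ha : ∀ i, a i * a i = 1) (v : Fin m ⊕ Fin m → F) :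
    quadFormPlus m F (genL σ a ha v) = quadFormPlus m F v := by
  rw [qp_apply, qp_apply, ← Equiv.sum_comp σ (fun i => v (.inl i) * v (.inr i))]
  refine Finset.sum_congr rfl fun i _ => ?_
  change a i * v (.inl (σ i)) * (a i * v (.inr (σ i))) = _
  linear_combination (v (.inl (σ i)) * v (.inr (σ i))) * ha i

/-- the monomial isometry -/
def gen (σ : Equiv.Perm (Fin m)) (a : Fin m → F) (ha : ∀ i, a i * a i = 1) : isometryGroup F (quadFormPlus m F) :=
  mkIso _ (genL σ a ha) (genL_q σ a ha)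

theorem gen_inl (σ : Equiv.Perm (Fin m)) (a : Fin m → F) (ha : ∀ i, a i * a i = 1) (v : Fin m ⊕ Fin m → F) (i : Fin m) :
    (((gen σ a ha : isometryGroup F (quadFormPlus m F)) : Matrix.GeneralLinearGroup _ F).1 *ᵥ v) (.inl i) =
      a i * v (.inl (σ i)) := by
  rw [gen, mkIso_mulVec]; rfl

theorem gen_inr (σ : Equiv.Perm (Fin m)) (a : Fin m → F) (ha : ∀ i, a i * a i = 1) (v : Fin m ⊕ Fin m → F) (i : Fin m) :
    (((gen σ a ha : isometryGroup F (quadFormPlus m F)) : Matrix.GeneralLinearGroup _ F).1 *ᵥ v) (.inr i) =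
      a i * v (.inr (σ i)) := by
  rw [gen, mkIso_mulVec]; rfl

end Gen

section Even

variable {F : Type*} [Field F] {m : ℕ} (σ : Equiv.Perm (Fin m)) (ε : Fin m → F)

/-- the map `ε + σ` -/
def pL (h2 : (2 : F) ≠ 0) (hσ : ∀ i, σ (σ i) = i) (hε : ∀ i, ε i * ε i = 1) (hs : ∀ i, ε (σ i) = -ε i) :
    (Fin m ⊕ Fin m → F) ≃ₗ[F] (Fin m ⊕ Fin m → F) where
  toFun v := Sum.elim (fun i => ε i * v (.inl i) + v (.inl (σ i))) (fun i => (ε i * v (.inr i) + v (.inr (σ i))) / 2)
  invFun v := Sum.elim (fun i => (ε i * v (.inl i) + v (.inl (σ i))) / 2) (fun i => ε i * v (.inr i) + v (.inr (σ i)))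
  map_add' v w := by
    funext i
    rcases i with i | i <;> simp <;> ring
  map_smul' c v := by
    funext i
    rcases i with i | i <;> simp <;> ring
  left_inv v := by
    funext i
    rcases i with i | i
    · simp only [Sum.elim_inl]
      rw [hσ, hs, div_eq_iff h2]
      linear_combination v (.inl i) * hε i
    · simp only [Sum.elim_inr]
      rw [hσ, hs]
      field_simp
      linear_combination v (.inr i) * hε i
  right_inv v := by
    funext i
    rcases i with i | i
    · simp only [Sum.elim_inl]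
      rw [hσ, hs]
      field_simp
      linear_combination v (.inl i) * hε i
    · simp only [Sum.elim_inr]
      rw [hσ, hs, div_eq_iff h2]
      linear_combination v (.inr i) * hε i

theorem pL_q (h2 : (2 : F) ≠ 0) (hσ : ∀ i, σ (σ i) = i) (hε : ∀ i, ε i * ε i = 1) (hs : ∀ i, ε (σ i) = -ε i)
    (v : Fin m ⊕ Fin m → F) : quadFormPlus m F (pL σ ε h2 hσ hε hs v) = quadFormPlus m F v := by
  rw [qp_apply, qp_apply]
  have h3 : ∑ i, v (.inl (σ i)) * v (.inr (σ i)) = ∑ i, v (.inl i) * v (.inr i) :=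
    Equiv.sum_comp σ (fun i => v (.inl i) * v (.inr i))
  have h4 : ∑ i, ε i * (v (.inl i) * v (.inr (σ i))) = -∑ i, ε i * (v (.inl (σ i)) * v (.inr i)) := by
    rw [← Equiv.sum_comp σ, ← Finset.sum_neg_distrib]
    refine Finset.sum_congr rfl fun i _ => ?_
    rw [hσ, hs]
    ring
  have h5 : ∀ i, pL σ ε h2 hσ hε hs v (.inl i) * pL σ ε h2 hσ hε hs v (.inr i) =
      (v (.inl i) * v (.inr i) + v (.inl (σ i)) * v (.inr (σ i)) + ε i * (v (.inl i) * v (.inr (σ i))) +
        ε i * (v (.inl (σ i)) * v (.inr i))) / 2 := by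
    intro i
    change (ε i * v (.inl i) + v (.inl (σ i))) * ((ε i * v (.inr i) + v (.inr (σ i))) / 2) = _
    rw [← mul_div_assoc]
    congr 1
    linear_combination (v (.inl i) * v (.inr i)) * hε i
  rw [Finset.sum_congr rfl fun i _ => h5 i, ← Finset.sum_div, Finset.sum_add_distrib, Finset.sum_add_distrib,
    Finset.sum_add_distrib, h3, h4, div_eq_iff h2]
  ring

/-- an element of `Ω` with square `-1` -/
theorem exists_sq_neg (h2 : (2 : F) ≠ 0) (hσ : ∀ i, σ (σ i) = i) (hε : ∀ i, ε i * ε i = 1)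
    (hs : ∀ i, ε (σ i) = -ε i) : ∃ u : Omega F (quadFormPlus m F), ∀ v,
      (u : isometryGroup F (quadFormPlus m F)).1.1 *ᵥ ((u : isometryGroup F (quadFormPlus m F)).1.1 *ᵥ v) = -v := by
  let D := gen (F := F) 1 ε hε
  let X := gen (F := F) σ ε hε
  let P : isometryGroup F (quadFormPlus m F) := mkIso _ (pL σ ε h2 hσ hε hs) (pL_q σ ε h2 hσ hε hs)
  have hPl : ∀ (v : Fin m ⊕ Fin m → F) (i : Fin m),
      ((P : Matrix.GeneralLinearGroup _ F).1 *ᵥ v) (.inl i) = ε i * v (.inl i) + v (.inl (σ i)) := by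
    intro v i
    rw [mkIso_mulVec]; rfl
  have hPr : ∀ (v : Fin m ⊕ Fin m → F) (i : Fin m),
      ((P : Matrix.GeneralLinearGroup _ F).1 *ᵥ v) (.inr i) = (ε i * v (.inr i) + v (.inr (σ i))) / 2 := by
    intro v i
    rw [mkIso_mulVec]; rfl
  have h1 : D * P = X * P * D := by
    apply iso_ext
    intro v
    rw [coe_mul_mulVec, coe_mul_mulVec, coe_mul_mulVec]
    funext i
    rcases i with i | i
    · rw [gen_inl, gen_inl, hPl, hPl, gen_inl, gen_inl, hσ, hs]
      simp only [Equiv.Perm.coe_one, id_eq]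
      linear_combination (-(ε i * v (.inl (σ i)))) * hε i
    · rw [gen_inr, gen_inr, hPr, hPr, gen_inr, gen_inr, hσ, hs]
      simp only [Equiv.Perm.coe_one, id_eq]
      field_simp
      linear_combination (-(ε i * v (.inr (σ i)))) * hε i
  have h3 : D * P * D⁻¹ * P⁻¹ = X := by
    rw [h1]
    group
  refine ⟨⟨X, ?_⟩, ?_⟩
  · rw [← h3]
    exact Subgroup.commutator_mem_commutator (Subgroup.mem_top D) (Subgroup.mem_top P)
  · intro v
    funext i
    rcases i with i | i
    · change ((X : Matrix.GeneralLinearGroup _ F).1 *ᵥ ((X : Matrix.GeneralLinearGroup _ F).1 *ᵥ v)) (.inl i) = _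
      rw [gen_inl, gen_inl, hσ, hs, Pi.neg_apply]
      linear_combination (-v (.inl i)) * hε i
    · change ((X : Matrix.GeneralLinearGroup _ F).1 *ᵥ ((X : Matrix.GeneralLinearGroup _ F).1 *ᵥ v)) (.inr i) = _
      rw [gen_inr, gen_inr, hσ, hs, Pi.neg_apply]
      linear_combination (-v (.inr i)) * hε i

end Even

/-- a fixed point free involution of `Fin m` with signs, `m` even -/
theorem exists_pairing (F : Type*) [Field F] {m : ℕ} (hm : Even m) : ∃ (σ : Equiv.Perm (Fin m)) (ε : Fin m → F),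
    (∀ i, σ (σ i) = i) ∧ (∀ i, ε i * ε i = 1) ∧ ∀ i, ε (σ i) = -ε i := by
  obtain ⟨k, hk⟩ := hm
  let e : Fin m ≃ Fin k × Fin 2 := (finCongr (by omega : m = k * 2)).trans finProdFinEquiv.symm
  let s : Equiv.Perm (Fin k × Fin 2) := (Equiv.refl _).prodCongr (Equiv.swap 0 1)
  let η : Fin 2 → F := fun j => if j = 0 then 1 else -1
  have hss : ∀ x, s (s x) = x := by
    rintro ⟨a, b⟩
    change (a, Equiv.swap 0 1 (Equiv.swap 0 1 b)) = (a, b)
    congr 1
    fin_cases b <;> rfl
  refine ⟨(e.trans s).trans e.symm, fun i => η (e i).2, fun i => ?_, fun i => ?_, fun i => ?_⟩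
  · change e.symm (s (e (e.symm (s (e i))))) = i
    rw [e.apply_symm_apply, hss, e.symm_apply_apply]
  · dsimp only [η]
    split_ifs <;> ring
  · change η (e (e.symm (s (e i)))).2 = -η (e i).2
    rw [Equiv.apply_symm_apply]
    change η (Equiv.swap 0 1 (e i).2) = -η (e i).2
    generalize (e i).2 = j
    fin_cases j <;> simp [η]

/-! ### long root elements -/

section Root

variable {F : Type*} [Field F] {m : ℕ} (a b : Fin m)

/-- the long root element -/
def rtL (t : F) : (Fin m ⊕ Fin m → F) ≃ₗ[F] (Fin m ⊕ Fin m → F) where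
  toFun v := Sum.elim (fun i => v (.inl i))
    (fun i => v (.inr i) + t * ((if i = a then v (.inl b) else 0) - (if i = b then v (.inl a) else 0)))
  invFun v := Sum.elim (fun i => v (.inl i))
    (fun i => v (.inr i) - t * ((if i = a then v (.inl b) else 0) - (if i = b then v (.inl a) else 0)))
  map_add' v w := by
    funext i
    rcases i with i | i
    · rfl
    · simp only [Sum.elim_inr, Pi.add_apply]
      split_ifs <;> ring
  map_smul' c v := by
    funext i
    rcases i with i | i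
    · rfl
    · simp only [Sum.elim_inr, Pi.smul_apply, smul_eq_mul, RingHom.id_apply]
      split_ifs <;> ring
  left_inv v := by
    funext i
    rcases i with i | i
    · rfl
    · simp only [Sum.elim_inr, Sum.elim_inl]
      ring
  right_inv v := by
    funext i
    rcases i with i | i
    · rfl
    · simp only [Sum.elim_inr, Sum.elim_inl]
      ring

theorem rtL_q (t : F) (v : Fin m ⊕ Fin m → F) : quadFormPlus m F (rtL a b t v) = quadFormPlus m F v := by
  rw [qp_apply, qp_apply]
  have h1 : ∀ i, rtL a b t v (.inl i) * rtL a b t v (.inr i) = v (.inl i) * v (.inr i) +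
      ((if i = a then v (.inl i) * t * v (.inl b) else 0) - (if i = b then v (.inl i) * t * v (.inl a) else 0)) := by
    intro i
    change v (.inl i) * (v (.inr i) + t * ((if i = a then v (.inl b) else 0) - (if i = b then v (.inl a) else 0))) = _
    split_ifs <;> ring
  rw [Finset.sum_congr rfl fun i _ => h1 i, Finset.sum_add_distrib, Finset.sum_sub_distrib, Finset.sum_ite_eq',
    Finset.sum_ite_eq', if_pos (Finset.mem_univ _), if_pos (Finset.mem_univ _)]
  ring

/-- the long root element -/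
def rt (t : F) : isometryGroup F (quadFormPlus m F) := mkIso _ (rtL a b t) (rtL_q a b t)

theorem rt_inl (t : F) (v : Fin m ⊕ Fin m → F) (i : Fin m) : ((rt a b t).1.1 *ᵥ v) (.inl i) = v (.inl i) := by
  rw [rt, mkIso_mulVec]; rfl

theorem rt_inr (t : F) (v : Fin m ⊕ Fin m → F) (i : Fin m) : ((rt a b t).1.1 *ᵥ v) (.inr i) =
    v (.inr i) + t * ((if i = a then v (.inl b) else 0) - (if i = b then v (.inl a) else 0)) := by
  rw [rt, mkIso_mulVec]; rfl

theorem rt_mul (s t : F) : rt a b s * rt a b t = rt a b (s + t) := by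
  apply iso_ext
  intro v
  rw [coe_mul_mulVec]
  funext i
  rcases i with i | i
  · rw [rt_inl, rt_inl, rt_inl]
  · rw [rt_inr, rt_inr, rt_inr, rt_inl, rt_inl]
    ring

theorem rt_zero : rt a b (0 : F) = 1 := by
  apply iso_ext
  intro v
  rw [Subgroup.coe_one, Units.val_one, Matrix.one_mulVec]
  funext i
  rcases i with i | i
  · rw [rt_inl]
  · rw [rt_inr, zero_mul, add_zero]

theorem rt_inv (t : F) : (rt a b t)⁻¹ = rt a b (-t) := by
  rw [inv_eq_iff_mul_eq_one, rt_mul, add_neg_cancel, rt_zero]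

theorem rt_pow (t : F) (n : ℕ) : rt a b t ^ n = rt a b (n * t) := by
  induction n with
  | zero => rw [pow_zero, Nat.cast_zero, zero_mul, rt_zero]
  | succ n ih => rw [pow_succ, ih, rt_mul, Nat.cast_succ, add_mul, one_mul]

theorem rt_ne_one (hab : a ≠ b) {t : F} (ht : t ≠ 0) : rt a b t ≠ 1 := by
  intro h
  have h1 : ((rt a b t).1.1 *ᵥ (Pi.single (.inl b) 1)) (.inr a) = (Pi.single (.inl b) 1 : Fin m ⊕ Fin m → F) (.inr a) := by
    rw [h, Subgroup.coe_one, Units.val_one, Matrix.one_mulVec]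
  rw [rt_inr] at h1
  simp [hab, ht] at h1

theorem rt_order {p : ℕ} [hp : Fact p.Prime] [CharP F p] (hab : a ≠ b) {t : F} (ht : t ≠ 0) :
    orderOf (rt a b t) = p := by
  refine orderOf_eq_prime ?_ (rt_ne_one a b hab ht)
  rw [rt_pow, CharP.cast_eq_zero, zero_mul, rt_zero]

theorem gen1_inl (c : Fin m → F) (hc : ∀ i, c i * c i = 1) (v : Fin m ⊕ Fin m → F) (i : Fin m) :
    (((gen 1 c hc : isometryGroup F (quadFormPlus m F)) : Matrix.GeneralLinearGroup _ F).1 *ᵥ v) (.inl i) =
      c i * v (.inl i) := gen_inl _ _ _ _ _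

theorem gen1_inr (c : Fin m → F) (hc : ∀ i, c i * c i = 1) (v : Fin m ⊕ Fin m → F) (i : Fin m) :
    (((gen 1 c hc : isometryGroup F (quadFormPlus m F)) : Matrix.GeneralLinearGroup _ F).1 *ᵥ v) (.inr i) =
      c i * v (.inr i) := gen_inr _ _ _ _ _

/-- a diagonal sign isometry with `c b = -c a` inverts the root element -/
theorem gen_rt (c : Fin m → F) (hc : ∀ i, c i * c i = 1) (hab : c b = -c a) (t : F) :
    gen 1 c hc * rt a b t = rt a b (-t) * gen 1 c hc := by
  have hab' : c a = -c b := by rw [hab, neg_neg]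
  apply iso_ext
  intro v
  rw [coe_mul_mulVec, coe_mul_mulVec]
  funext i
  rcases i with i | i
  · rw [gen1_inl, rt_inl, rt_inl, gen1_inl]
  · rw [gen1_inr, rt_inr, rt_inr, gen1_inr, gen1_inl, gen1_inl]
    have k1 : i = a → c i = -c b := by rintro rfl; exact hab'
    have k2 : i = b → c i = -c a := by rintro rfl; exact hab
    split_ifs with h1 h2 h2
    · linear_combination (t * v (.inl b)) * k1 h1 - (t * v (.inl a)) * k2 h2
    · linear_combination (t * v (.inl b)) * k1 h1
    · linear_combination (-(t * v (.inl a))) * k2 h2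
    · ring

/-- a diagonal sign isometry with `c b = c a` commutes with the root element -/
theorem gen_rt_comm (c : Fin m → F) (hc : ∀ i, c i * c i = 1) (hab : c b = c a) (t : F) :
    gen 1 c hc * rt a b t = rt a b t * gen 1 c hc := by
  apply iso_ext
  intro v
  rw [coe_mul_mulVec, coe_mul_mulVec]
  funext i
  rcases i with i | i
  · rw [gen1_inl, rt_inl, rt_inl, gen1_inl]
  · rw [gen1_inr, rt_inr, rt_inr, gen1_inr, gen1_inl, gen1_inl]
    have k1 : i = a → c i = c b := by rintro rfl; exact hab.symm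
    have k2 : i = b → c i = c a := by rintro rfl; exact hab
    split_ifs with h1 h2 h2
    · linear_combination (t * v (.inl b)) * k1 h1 - (t * v (.inl a)) * k2 h2
    · linear_combination (t * v (.inl b)) * k1 h1
    · linear_combination (-(t * v (.inl a))) * k2 h2
    · ring

/-- the sign change at `a` -/
def sg (i : Fin m) : F := if i = a then -1 else 1

theorem sg_sq (i : Fin m) : sg (F := F) a i * sg a i = 1 := by
  unfold sg; split_ifs <;> ring

theorem sg_self : sg (F := F) a a = -1 := if_pos rfl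

theorem sg_of_ne {i : Fin m} (h : i ≠ a) : sg (F := F) a i = 1 := if_neg h

/-- the sign change at `a` -/
def sgE : isometryGroup F (quadFormPlus m F) := gen 1 (sg a) (sg_sq a)

/-- the transposition -/
def trE : isometryGroup F (quadFormPlus m F) := gen (Equiv.swap a b) (fun _ => 1) (fun _ => one_mul 1)

theorem trE_sgE : trE (F := F) a b * sgE a = sgE b * trE a b := by
  have key : ∀ i, sg (F := F) a (Equiv.swap a b i) = sg b i := by
    intro i
    have : Equiv.swap a b i = a ↔ i = b := by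
      rw [Equiv.swap_apply_eq_iff, Equiv.swap_apply_left]
    unfold sg
    simp only [this]
  apply iso_ext
  intro v
  rw [coe_mul_mulVec, coe_mul_mulVec]
  funext i
  rcases i with i | i
  · rw [trE, sgE, sgE, gen_inl, gen1_inl, gen1_inl, gen_inl, key]
    ring
  · rw [trE, sgE, sgE, gen_inr, gen1_inr, gen1_inr, gen_inr, key]
    ring

/-- the defining characteristic -/
theorem realP_char_oplus' [Fintype F] {p : ℕ} [hp : Fact p.Prime] [CharP F p] (hp2 : p ≠ 2) (d : Fin m) (hab : b ≠ a)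
    (had : d ≠ a) (hbd : b ≠ d) : RealP (POmega F (quadFormPlus m F)) p := by
  have h2 : (2 : F) ≠ 0 := by
    intro h
    have h3 : ((2 : ℕ) : F) = 0 := by exact_mod_cast h
    rw [CharP.cast_eq_zero_iff F p] at h3
    exact hp2 ((Nat.prime_dvd_prime_iff_eq hp.out Nat.prime_two).1 h3)
  -- the root element
  have hu : sgE a * rt a b (1 : F) * (sgE a)⁻¹ * (rt a b (1 : F))⁻¹ = rt a b (-(2 : F)) := by
    rw [sgE, gen_rt a b (sg a) (sg_sq a) (by rw [sg_self, sg_of_ne a hab, neg_neg]), mul_inv_cancel_right, rt_inv,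
      rt_mul]
    congr 1
    ring
  have hy : sgE (F := F) a * trE a d * (sgE a)⁻¹ * (trE a d)⁻¹ = sgE a * (sgE d)⁻¹ := by
    have h1 : trE (F := F) a d * (sgE a)⁻¹ = (sgE d)⁻¹ * trE a d := by
      rw [mul_inv_eq_iff_eq_mul, mul_assoc, trE_sgE, inv_mul_cancel_left]
    rw [mul_assoc (sgE a), h1, ← mul_assoc, mul_inv_cancel_right]
  let U : Omega F (quadFormPlus m F) := ⟨rt a b (-(2 : F)), by
    rw [← hu]; exact Subgroup.commutator_mem_commutator (Subgroup.mem_top _) (Subgroup.mem_top _)⟩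
  let Y : Omega F (quadFormPlus m F) := ⟨sgE a * (sgE d)⁻¹, by
    rw [← hy]; exact Subgroup.commutator_mem_commutator (Subgroup.mem_top _) (Subgroup.mem_top _)⟩
  refine realP_center (hp.out.odd_of_ne_two hp2) ⟨U, ?_, Y, ?_⟩
  · rw [← Subgroup.orderOf_coe]
    exact rt_order a b hab.symm (neg_ne_zero.2 h2)
  · apply Subtype.ext
    change sgE a * (sgE d)⁻¹ * rt a b (-(2 : F)) * (sgE a * (sgE d)⁻¹)⁻¹ = (rt a b (-(2 : F)))⁻¹
    have h3 : sgE (F := F) d * rt a b (-2) = rt a b (-2) * sgE d :=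
      gen_rt_comm a b (sg d) (sg_sq d) (by rw [sg_of_ne d hbd, sg_of_ne d had.symm]) _
    have h4 : sgE (F := F) a * rt a b (-2) = rt a b (- -2) * sgE a :=
      gen_rt a b (sg a) (sg_sq a) (by rw [sg_self, sg_of_ne a hab, neg_neg]) _
    have h5 : (sgE (F := F) d)⁻¹ * rt a b (-2) = rt a b (-2) * (sgE d)⁻¹ := by
      rw [inv_mul_eq_iff_eq_mul, ← mul_assoc, h3, mul_inv_cancel_right]
    rw [rt_inv, mul_assoc (sgE a), h5, mul_inv_eq_iff_eq_mul, ← mul_assoc, h4, mul_assoc]

theorem realP_char_oplus [Fintype F] {p : ℕ} [hp : Fact p.Prime] [CharP F p] (hp2 : p ≠ 2) (hm : 3 ≤ m) :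
    RealP (POmega F (quadFormPlus m F)) p :=
  realP_char_oplus' (F := F) (⟨0, by omega⟩ : Fin m) ⟨1, by omega⟩ hp2 ⟨2, by omega⟩ (by simp) (by simp) (by simp)

end Root

/-- **`N_1` of `PΩ^+_{2m}(q)`**, `q` odd, `m` even. -/
theorem not_cov_plus_even {F : Type*} [Field F] (h2 : (2 : F) ≠ 0) {m : ℕ} (hm : Even m)
    {M : Subgroup (POmega F (quadFormPlus m F))} {v : Fin m ⊕ Fin m → F} (hv : quadFormPlus m F v ≠ 0)
    (hM : pre (quadFormPlus m F) M ≤ subspaceStabilizer (Submodule.span F {v})) :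
    ¬ Cov (POmega F (quadFormPlus m F)) M := by
  intro hc
  obtain ⟨σ, ε, hσ, hε, hs⟩ := exists_pairing F hm
  obtain ⟨u, hu⟩ := exists_sq_neg σ ε h2 hσ hε hs
  have huu : ∀ v, ((u * u : Omega F (quadFormPlus m F)) : isometryGroup F (quadFormPlus m F)).1.1 *ᵥ v = -v := by
    intro v
    rw [coe_mv]
    exact hu v
  have hcen : u * u ∈ Subgroup.center (Omega F (quadFormPlus m F)) := by
    rw [Subgroup.mem_center_iff]
    intro g
    apply Subtype.ext
    apply iso_ext
    intro w
    rw [coe_mv g (u * u), coe_mv (u * u) g, huu, huu, Matrix.mulVec_neg]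
  have hr : IsReal (QuotientGroup.mk' (Subgroup.center (Omega F (quadFormPlus m F))) u) := by
    apply IsReal.of_sq
    rw [← map_pow, pow_two]
    exact (QuotientGroup.eq_one_iff _).2 hcen
  obtain ⟨t, ht⟩ := hc.2 _ hr
  obtain ⟨y, rfl⟩ := QuotientGroup.mk'_surjective _ t
  rw [← map_mul, ← map_inv, ← map_mul] at ht
  have h1 := (hM (mem_pre.2 ht) v).1 (Submodule.mem_span_singleton_self v)
  obtain ⟨c, hcv⟩ := Submodule.mem_span_singleton.1 h1
  have hcv' : (((y * u * y⁻¹ : Omega F (quadFormPlus m F)) : isometryGroup F (quadFormPlus m F))).1.1 *ᵥ v = c • v := hcv.symm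
  -- `c² = -1`
  have h3 : (((y * u * y⁻¹ * (y * u * y⁻¹) : Omega F (quadFormPlus m F)) : isometryGroup F (quadFormPlus m F))).1.1 *ᵥ v = -v := by
    have e : y * u * y⁻¹ * (y * u * y⁻¹) = u * u := by
      have h4 : y * (u * u) * y⁻¹ = u * u := by
        rw [Subgroup.mem_center_iff.1 hcen y, mul_inv_cancel_right]
      rw [← h4]; group
    rw [e, huu]
  rw [coe_mv, hcv', Matrix.mulVec_smul, hcv', smul_smul] at h3
  have hv0 : v ≠ 0 := by
    rintro rfl
    exact hv (by rw [qp_apply]; simp)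
  have hcc : c * c = -1 := by
    have h5 : (c * c + 1) • v = 0 := by rw [add_smul, one_smul, h3, neg_add_cancel]
    exact eq_neg_of_add_eq_zero_left ((smul_eq_zero.1 h5).resolve_right hv0)
  have h6 : quadFormPlus m F (c • v) = quadFormPlus m F v := by
    rw [← hcv']
    exact (mem_isometryGroup_iff (quadFormPlus m F) _).1 ((y * u * y⁻¹ : Omega F (quadFormPlus m F)) :
      isometryGroup F (quadFormPlus m F)).2 v
  have h7 : quadFormPlus m F (c • v) = c * c * quadFormPlus m F v := by
    rw [qp_apply, qp_apply, Finset.mul_sum]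
    refine Finset.sum_congr rfl fun i _ => ?_
    rw [Pi.smul_apply, Pi.smul_apply, smul_eq_mul, smul_eq_mul]
    ring
  rw [h7, hcc] at h6
  apply hv
  have h8 : 2 * quadFormPlus m F v = 0 := by linear_combination -h6
  exact (mul_eq_zero.1 h8).resolve_left h2

end Cfsg.Agent.H990.Odm
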