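import Cfsg.Agent.H264.FKS.Final
import Cfsg.Agent.H163.PG.Ord
import Cfsg.Agent.H453.OddM.Defs

/-!
# TEAM ODDM: `PΩ^+_{2n}(q)`, `n` even, `q` odd: the three names of `full_oplus` have too small `2`-part (helper990)
-/

set_option autoImplicit false

namespace Cfsg.Agent.H990.Odm

open Cfsg Cfsg.Agent.OrdDiv Cfsg.Agent.H436 Cfsg.Agent.H264.FKS Cfsg.Agent.H453.OddM

universe u

/-! ### valuations -/

theorem val_odd {a : ℕ} (h : Odd a) : padicValNat 2 a = 0 :=
  padicValNat.eq_zero_of_not_dvd fun h1 => (Nat.not_even_iff_odd.2 h) (even_iff_two_dvd.2 h1)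

theorem val_mono {a b : ℕ} (hb : b ≠ 0) (h : a ∣ b) : padicValNat 2 a ≤ padicValNat 2 b :=
  (padicValNat_dvd_iff_le hb).1 (pow_padicValNat_dvd.trans h)

theorem val_dvd {a b k : ℕ} (hk : b = 2 ^ k) (h : a ∣ b) : padicValNat 2 a ≤ k := by
  have := Fact.mk Nat.prime_two
  have h1 := val_mono (by rw [hk]; positivity) h
  rwa [hk, padicValNat.prime_pow] at h1

/-- `v (p ^ (2 m) - 1) ≥ v m + 3` -/
theorem val_sub {p m : ℕ} (hp : Odd p) (hp1 : 1 < p) (hm : m ≠ 0) :
    padicValNat 2 m + 3 ≤ padicValNat 2 (p ^ (2 * m) - 1) := by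
  have := Fact.mk Nat.prime_two
  obtain ⟨k, hk⟩ := hp
  have hk0 : 1 ≤ k := by omega
  have h1 := padicValNat.pow_two_sub_pow (x := p) (y := 1) hp1 ⟨k, by omega⟩ (by omega) (n := 2 * m) (by omega)
    (even_two_mul m)
  rw [one_pow] at h1
  have h2 : padicValNat 2 (2 * m) = 1 + padicValNat 2 m := by
    rw [padicValNat.mul (by norm_num) hm, padicValNat.self (by norm_num)]
  have h3 : 3 ≤ padicValNat 2 (p + 1) + padicValNat 2 (p - 1) := by
    rw [← padicValNat.mul (by omega) (by omega)]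
    have h4 : 2 ^ 3 ∣ (p + 1) * (p - 1) := by
      rw [hk, show 2 * k + 1 - 1 = 2 * k by omega, show (2 * k + 1 + 1) * (2 * k) = 4 * (k * (k + 1)) by ring]
      rw [show (2 : ℕ) ^ 3 = 4 * 2 by norm_num]
      exact Nat.mul_dvd_mul_left 4 (even_iff_two_dvd.1 (Nat.even_mul_succ_self k))
    exact (padicValNat_dvd_iff_le (Nat.mul_ne_zero (by omega) (by omega))).1 h4
  omega

theorem prB_ne {q : ℕ} (hq : 2 ≤ q) (m : ℕ) : prB q m ≠ 0 := by
  rw [Cfsg.Agent.H264.GN.prB_eq, Finset.prod_ne_zero_iff]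
  intro i _
  have := Nat.one_lt_pow (n := 2 * (i + 1)) (by omega) (show 1 < q by omega)
  omega

section

variable {p f n : ℕ} {T : Type} [Group T] [Finite T] {R : Subgroup T}

/-- `|R|` divides `|Out X| |S|` -/
theorem card_dvd_of_iso {X : Type} [Group X] (S : Subgroup R) [S.Normal] [IsSimpleGroup S]
    (hna : ¬ IsMulCommutative S) (hC : Subgroup.centralizer (S : Set R) = ⊥) (e : S ≃* X) :
    (Nat.card R ∣ Nat.card (Cfsg.Out X) * Nat.card X) ∧ Subgroup.center X = ⊥ := by
  have hfin : Finite X := Finite.of_equiv S e.toEquiv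
  have hs : IsSimpleGroup X := e.symm.isSimpleGroup
  have hna' : ¬ IsMulCommutative X := fun h => hna ⟨⟨fun a b => e.injective (by
    rw [map_mul, map_mul]; exact h.is_comm.comm _ _)⟩⟩
  constructor
  · rw [H934.OutB.card_out_mul X hna', ← Nat.card_congr (MulAut.congr e).toEquiv]
    exact dvd_aut S hC
  · rcases IsSimpleGroup.eq_bot_or_eq_top_of_normal (Subgroup.center X) inferInstance with h | h
    · exact h
    · exact absurd ⟨⟨fun a b => (Subgroup.mem_center_iff.1 (h ▸ Subgroup.mem_top b) a)⟩⟩ hna'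

/-- **The three names have too small `2`-part.** -/
theorem not_cov_three (hT : IsNamed (.oplus n (p ^ f)) T) (hp : p.Prime) (hp2 : p ≠ 2) (hf : 1 ≤ f) (hn : 4 ≤ n)
    (hne : Even n) (S : Subgroup R) [S.Normal] [IsSimpleGroup S] (hna : ¬ IsMulCommutative S)
    (hC : Subgroup.centralizer (S : Set R) = ⊥) {g : Grp} (hS : IsNamed g S)
    (hg : g = .psl (n - 1) (p ^ (2 * f)) ∨ g = .psp (n - 1) (p ^ f) ∨ g = .oodd (n - 1) (p ^ f)) :
    ¬ Odd R.index := by
  intro hodd
  have := Fact.mk Nat.prime_two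
  have hpo : Odd p := hp.odd_of_ne_two hp2
  have hp3 : 3 ≤ p := by
    have := hp.two_le
    omega
  set q := p ^ f with hq
  have hqo : Odd q := hpo.pow
  have hq3 : 3 ≤ q := hp3.trans (Nat.le_self_pow (by omega) p)
  have hB := prB_ne (show 2 ≤ q by omega) (n - 1)
  set B := prB q (n - 1) with hBdef
  have hqn : 1 < q ^ n := Nat.one_lt_pow (by omega) (by omega)
  -- `T`
  have hTeq : Nat.gcd 4 (q ^ n - 1) * Nat.card T = q ^ (n * (n - 1)) * ((q ^ n - 1) * B) := hT.eq
  have hT0 : Nat.card T ≠ 0 := Nat.card_pos.ne'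
  have hvT : padicValNat 2 (q ^ n - 1) + padicValNat 2 B ≤ 2 + padicValNat 2 (Nat.card T) := by
    have h1 := congrArg (padicValNat 2) hTeq
    rw [padicValNat.mul (Nat.gcd_pos_of_pos_left _ (by norm_num)).ne' hT0,
      padicValNat.mul (by positivity) (Nat.mul_ne_zero (by omega) hB), padicValNat.mul (by omega) hB,
      val_odd hqo.pow] at h1
    have h2 := val_dvd (k := 2) (by norm_num) (Nat.gcd_dvd_left 4 (q ^ n - 1))
    omega
  have hvn : padicValNat 2 f + 3 ≤ padicValNat 2 (q ^ n - 1) := by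
    obtain ⟨k, hk⟩ := hne
    have h1 := val_sub (m := f * k) hpo (by omega) (Nat.mul_ne_zero (by omega) (by omega))
    rw [padicValNat.mul (by omega) (by omega)] at h1
    rw [hq, ← pow_mul, show f * n = 2 * (f * k) by rw [hk]; ring]
    omega
  have hvR : padicValNat 2 (Nat.card T) = padicValNat 2 (Nat.card R) := by
    rw [← R.card_mul_index, padicValNat.mul Nat.card_pos.ne' R.index_ne_zero_of_finite, val_odd hodd, add_zero]
  have hg2 : Nat.gcd 2 (q - 1) = 2 := Nat.gcd_eq_left (by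
    obtain ⟨k, hk⟩ := hqo
    exact ⟨k, by omega⟩)
  have hS0 : Nat.card S ≠ 0 := Nat.card_pos.ne'
  have hRS : ∀ {X : Type} [Group X] (e : S ≃* X) {m : ℕ}, Nat.card (Cfsg.Out X) = m → m ≠ 0 →
      padicValNat 2 (Nat.card R) ≤ padicValNat 2 m + padicValNat 2 (Nat.card S) := by
    intro X _ e m hm hm0
    have h1 := (card_dvd_of_iso S hna hC e).1
    rw [hm, ← Nat.card_congr e.toEquiv] at h1
    rw [← padicValNat.mul hm0 hS0]
    exact val_mono (Nat.mul_ne_zero hm0 hS0) h1
  rcases hg with rfl | rfl | rfl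
  · -- `PSL_{n-1}(q²)`
    have hc := hS.cond
    have hSeq : Nat.gcd (n - 1) (p ^ (2 * f) - 1) * (p ^ (2 * f) - 1) * Nat.card S = glN (n - 1) (p ^ (2 * f)) := hS.eq
    obtain ⟨F, _, _, hF, ⟨e⟩⟩ := hS.real
    have h1 := H163.PG.card_out_psl (F := F) (n := n - 1) hp (f := 2 * f) (by omega) hF (by omega)
      (card_dvd_of_iso S hna hC e).2
    have hgo : Odd (Nat.gcd (n - 1) (p ^ (2 * f) - 1)) := by
      refine Odd.of_dvd_nat ?_ (Nat.gcd_dvd_left _ _)
      obtain ⟨k, hk⟩ := hne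
      exact ⟨k - 1, by omega⟩
    have hq1 : 1 < p ^ (2 * f) := Nat.one_lt_pow (by omega) (by omega)
    have hg0 : Nat.gcd (n - 1) (p ^ (2 * f) - 1) ≠ 0 := (Nat.gcd_pos_of_pos_left _ (by omega)).ne'
    have h2 := hRS e (h1.trans (by rw [hF])) (Nat.mul_ne_zero (by omega) hg0)
    rw [padicValNat.mul (by omega) hg0, val_odd hgo, padicValNat.mul (by norm_num) (by omega),
      padicValNat.mul (by norm_num) (by omega), padicValNat.self (by norm_num)] at h2
    have h3 := congrArg (padicValNat 2) hSeq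
    have h4 : ∏ j ∈ Finset.range (n - 1), ((p ^ (2 * f)) ^ (j + 1) - 1) = B := by
      rw [hBdef, Cfsg.Agent.H264.GN.prB_eq]
      refine Finset.prod_congr rfl fun j _ => ?_
      rw [hq, ← pow_mul, ← pow_mul, show 2 * f * (j + 1) = f * (2 * (j + 1)) by ring]
    rw [padicValNat.mul (Nat.mul_ne_zero hg0 (by omega)) hS0, padicValNat.mul hg0 (by omega), val_odd hgo,
      Cfsg.Agent.H264.GN.glN_eq, h4, padicValNat.mul (by positivity) hB, val_odd (hpo.pow.pow)] at h3
    have h5 := val_sub (m := f) hpo (by omega) (by omega)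
    omega
  · -- `PSp_{2n-2}(q)`
    have hSeq : Nat.gcd 2 (q - 1) * Nat.card S = q ^ ((n - 1) ^ 2) * prB q (n - 1) := hS.eq
    obtain ⟨F, _, _, hF, ⟨e⟩⟩ := hS.real
    have h1 := H163.PG.card_out_psp (F := F) (n := n - 1) hp (f := f) (by omega) hF (by omega) (by omega)
      (card_dvd_of_iso S hna hC e).2
    rw [if_neg (by omega), one_mul, ← hq, hg2] at h1
    have h2 := hRS e h1 (by omega)
    rw [padicValNat.mul (by norm_num) (by omega), padicValNat.self (by norm_num)] at h2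
    have h3 := congrArg (padicValNat 2) hSeq
    rw [hg2, padicValNat.mul (by norm_num) hS0, padicValNat.self (by norm_num), padicValNat.mul (by positivity) hB,
      val_odd hqo.pow] at h3
    omega
  · -- `Ω_{2n-1}(q)`
    have hSeq : 2 * Nat.card S = q ^ ((n - 1) ^ 2) * prB q (n - 1) := hS.eq
    obtain ⟨F, _, _, hF, ⟨e⟩⟩ := hS.real
    have h1 := H163.PG.card_out_oodd (F := F) (n := n - 1) hp (f := f) (by omega) hF (by rw [hF]; exact hqo) (by omega)
      (card_dvd_of_iso S hna hC e).2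
    have h2 := hRS e h1 (by omega)
    rw [padicValNat.mul (by norm_num) (by omega), padicValNat.self (by norm_num)] at h2
    have h3 := congrArg (padicValNat 2) hSeq
    rw [padicValNat.mul (by norm_num) hS0, padicValNat.self (by norm_num), padicValNat.mul (by positivity) hB,
      val_odd hqo.pow] at h3
    omega

end

end Cfsg.Agent.H990.Odm
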