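import Cfsg.Agent.H278.ElFamA
import Cfsg.Agent.H278.ElCrossRows
import Cfsg.Agent.H990.Odm.Half
import Cfsg.Agent.H990.Odm.TwoPart
import Cfsg.Agent.H453.OddM.Asm

/-!
# TEAM ODDM: the row `PΩ^+_{2n}(q)`, `n` even, `q` odd (helper990)
-/

set_option autoImplicit false

namespace Cfsg.Agent.H990.Odm

open Cfsg Cfsg.Geo Cfsg.Agent.OrdDiv Cfsg.Agent.H436 Cfsg.Agent.H264.FKS Cfsg.Agent.H453.OddM
open Cfsg.Agent.H278.El.SporNum (exc)
open Cfsg.Agent.H278.El.AltNum (dimOf surv)
open Cfsg.Agent.H884.Cx (excP)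
open Cfsg.Agent.H278.El.Asm (named_of_simple res_kill cross_gen Surv charP_of hasChar_card)
open scoped MatrixGroups

universe u

/-- every odd prime divisor of the order is the order of a real element -/
theorem realP_of_dvd {F : Type} [Field F] [Fintype F] {m : ℕ} (hm : 4 ≤ m) (he : Even m) (hodd : Odd (Fintype.card F))
    {r : ℕ} (hr : r.Prime) (hr2 : r ≠ 2) (hd : r ∣ Nat.card (POmega F (quadFormPlus m F))) :
    RealP (POmega F (quadFormPlus m F)) r := by
  have h2 : (2 : F) ≠ 0 := H390.two_ne_zero_of_odd hodd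
  have hT : IsNamed (.oplus m (Fintype.card F)) (POmega F (quadFormPlus m F)) := named_oplus (F := F) hm
  have hro : Odd r := hr.odd_of_ne_two hr2
  have key : ∀ d, d ≠ 0 → d < m → r ∣ Fintype.card F ^ (2 * d) - 1 → RealP (POmega F (quadFormPlus m F)) r := by
    intro d hd0 hdm h
    refine realP_oplus h2 (by omega) hd0 hdm hro ?_
    rw [mul_comm, pow_mul, ← one_pow 2, Nat.sq_sub_sq] at h
    exact ((hr.dvd_mul).1 h).symm
  have hTeq : Nat.gcd 4 (Fintype.card F ^ m - 1) * Nat.card (POmega F (quadFormPlus m F)) =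
    Fintype.card F ^ (m * (m - 1)) * ((Fintype.card F ^ m - 1) * prB (Fintype.card F) (m - 1)) := hT.eq
  have h3 : r ∣ Fintype.card F ^ (m * (m - 1)) * ((Fintype.card F ^ m - 1) * prB (Fintype.card F) (m - 1)) := by
    rw [← hTeq]
    exact hd.mul_left _
  rcases (hr.dvd_mul).1 h3 with h | h
  · have := charP_of hr (hr.dvd_of_dvd_pow h)
    have := Fact.mk hr
    exact realP_char_oplus hr2 (by omega)
  · rcases (hr.dvd_mul).1 h with h | h
    · obtain ⟨k, hk⟩ := he
      refine key k (by omega) (by omega) ?_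
      rwa [two_mul, ← hk]
    · rw [Cfsg.Agent.H264.GN.prB_eq, hr.prime.dvd_finsetProd_iff] at h
      obtain ⟨i, hi, h⟩ := h
      rw [Finset.mem_range] at hi
      exact key (i + 1) (by omega) (by omega) h

/-- no proper subgroup of `PΩ^+_{2m}(q)`, `m` even, `q` odd, has odd index and meets every real class -/
theorem not_cov_oplus_even (tab : OrderTable.{0}) (hK : ∀ (X : Type) [Group X] [Finite X] [IsSimpleGroup X],
    Cfsg.IsKnownSimple' X) (hs : Surv) {F : Type} [Field F] [Fintype F] {m : ℕ} (hm : 4 ≤ m) (he : Even m)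
    (hodd : Odd (Fintype.card F)) {R : Subgroup (POmega F (quadFormPlus m F))} (hR : R ≠ ⊤) : ¬ Cov _ R := by
  intro hc
  have h2 : (2 : F) ≠ 0 := H390.two_ne_zero_of_odd hodd
  have hT : IsNamed (.oplus m (Fintype.card F)) (POmega F (quadFormPlus m F)) := named_oplus (F := F) hm
  have hfin : Finite (POmega F (quadFormPlus m F)) := Quotient.finite _
  obtain ⟨p, f, hp, hf, hpf⟩ := (isPrimePow_nat_iff _).1 hT.cond.2
  have hpF : p ∣ Fintype.card F := hpf ▸ dvd_pow_self p (by omega)
  have hp2 : p ≠ 2 := by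
    rintro rfl
    exact (Nat.not_even_iff_odd.2 hodd) (even_iff_two_dvd.2 hpF)
  have hmiss : H884.El.Miss R → False := by
    rintro ⟨r, hr, hd, hn⟩
    by_cases hr2 : r = 2
    · subst hr2
      exact hn (by simpa using (hc.two_part (k := 1)).1 (by simpa using hd))
    · exact not_cov_of_prime (realP_of_dvd hm he hodd hr hr2 hd) hn hc
  rcases H884.El.geo_plus_miss hm (by
      rintro ⟨h, -⟩
      rw [Nat.card_eq_fintype_card] at h
      rw [h] at hodd
      exact absurd hodd (by decide)) R with h | ⟨P, hP, -⟩ | ⟨-, v, hv, hM⟩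
  · exact hmiss h
  · obtain ⟨S, hSn, hSs, hna, hC, ⟨e⟩⟩ := exists_res_plus hm (M := R) hP
    obtain ⟨g, hg⟩ := named_of_simple tab hK hna
    have hι : Fintype.card (Fin m ⊕ Fin m) = dimOf (.oplus m (Fintype.card F)) := by
      rw [Fintype.card_sum, Fintype.card_fin]
      exact (two_mul m).symm
    refine res_kill (p := p) hT trivial ?_ ?_ S hC hg e hι hmiss ?_ ?_
    · simp only [surv, List.mem_cons, Grp.oplus.injEq, reduceCtorEq, or_false, false_or, List.not_mem_nil]
      rintro ⟨-, h⟩
      rw [h] at hodd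
      exact absurd hodd (by decide)
    · intro g' hg'
      simp only [exc, List.mem_cons, Prod.mk.injEq, Grp.oplus.injEq, reduceCtorEq, and_false, or_false, false_or,
        List.not_mem_nil] at hg'
      obtain ⟨-, -, h⟩ := hg'
      rw [h] at hodd
      exact absurd hodd (by decide)
    · intro hch
      by_cases hfull : Full (POmega F (quadFormPlus m F)) R
      · rw [← hpf] at hT
        exact not_cov_three hT hp hp2 (by omega) hm he S hna hC hg
          (full_oplus hT hp (by omega) hm (fun h => hp2 h.1) (fun h => hp2 h.1) hR hfull S hna hC hg hch).2 hc.1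
      · exact hmiss (exists_of_not_full hfull)
    · intro s hsp hne hch
      rcases cross_gen hp hT trivial (hasChar_card hp hpF) hι hpF S hSn hSs hna hC hP ⟨e⟩ hsp hne hg hch with h | h
      · exact hmiss h
      · simp only [excP, List.mem_cons, Prod.mk.injEq, Grp.oplus.injEq, reduceCtorEq, and_false, or_false,
          false_or, List.not_mem_nil] at h
        rcases h with ⟨rfl, rfl, h3⟩ | ⟨rfl, rfl, h3⟩
        · exact hs.g2 h3 hR S hSn hC hg
        · exact hs.sz h3 (by rw [Fintype.card_sum, Fintype.card_fin]) hP e hg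
  · exact not_cov_plus_even h2 he hv hM hc

/-- **The row `PΩ^+_{2n}(q)`, `n` even, `q` odd.** -/
theorem row_oplus_even_of (tab : OrderTable.{0}) (hK : ∀ (X : Type) [Group X] [Finite X] [IsSimpleGroup X],
    Cfsg.IsKnownSimple' X) (hs : Surv) (n q : ℕ) (he : Even n) (h2 : ¬ 2 ∣ q) : RowN.{u} (.oplus n q) := by
  intro T _ _ _ hT
  have hn : 4 ≤ n := hT.cond.1
  obtain ⟨F, _, _, hF, ⟨e⟩⟩ := hT.real
  subst hF
  have hodd : Odd (Fintype.card F) := Nat.not_even_iff_odd.1 fun h => h2 (even_iff_two_dvd.1 h)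
  have hfin : Finite (POmega F (quadFormPlus n F)) := Quotient.finite _
  have h1 : RowC (POmega F (quadFormPlus n F)) := fun M hM => not_cov_oplus_even tab hK hs hn he hodd hM.1
  exact (Row.congr e.symm h1.row).row8

end Cfsg.Agent.H990.Odm
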